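import Groth.Agent.EtpbcB.RDerLES
import Groth.Agent.Sga4h.ExtLES
import Groth.Agent.Sga5.H177.FinIso

/-!
# Right exactness of `R^q G` and left exactness of `Hom(-, H)` on a multiplication
-/

set_option autoImplicit false
universe u
open CategoryTheory CategoryTheory.Limits AlgebraicGeometry Opposite

namespace Groth.Agent.Sga5.H990.Alg

open Groth.Agent.Sga4h Groth.Agent.Sga4h.HomSh Groth.Agent.Sga4h.ModRestr
open Groth.Agent.Sga5.H177.FinIso

section Abstract

universe v₁ v₂ v₃ u₁ u₂ u₃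

variable {C : Type u₁} {D : Type u₂} {E : Type u₃} [Category.{v₁} C] [Category.{v₂} D]
  [Category.{v₃} E] [Abelian C] [Abelian D] [Abelian E] [HasInjectiveResolutions C]
  (G : C ⥤ D) [G.Additive] (σ : D ⥤ E) [σ.Additive] [PreservesFiniteLimits σ]
  [PreservesFiniteColimits σ]

omit [PreservesFiniteLimits σ] [PreservesFiniteColimits σ] in
theorem comp_zero'' {A B : C} (f : A ⟶ B) (q : ℕ) :
    σ.map ((G.rightDerived q).map f) ≫ σ.map ((G.rightDerived q).map (cokernel.π f)) = 0 := by
  rw [← σ.map_comp, ← (G.rightDerived q).map_comp, cokernel.condition, (G.rightDerived q).map_zero,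
    σ.map_zero]

omit [HasInjectiveResolutions C] in
theorem ses₁ {A B : C} (f : A ⟶ B) :
    ∃ w, (ShortComplex.mk (kernel.ι f) (Abelian.factorThruImage f) w).ShortExact := by
  have w : kernel.ι f ≫ Abelian.factorThruImage f = 0 := by
    rw [← cancel_mono (Abelian.image.ι f), Category.assoc, Abelian.image.fac, kernel.condition,
      zero_comp]
  refine ⟨w, ⟨?_⟩⟩
  let S₁ := ShortComplex.mk (kernel.ι f) (Abelian.factorThruImage f) w
  let S₂ := ShortComplex.mk (kernel.ι f) f (kernel.condition f)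
  let φ : S₁ ⟶ S₂ :=
    { τ₁ := 𝟙 _
      τ₂ := 𝟙 _
      τ₃ := Abelian.image.ι f
      comm₁₂ := by simp [S₁, S₂]
      comm₂₃ := by simp [S₁, S₂] }
  have h1 : Epi φ.τ₁ := inferInstanceAs (Epi (𝟙 _))
  have h2 : IsIso φ.τ₂ := inferInstanceAs (IsIso (𝟙 _))
  have h3 : Mono φ.τ₃ := inferInstanceAs (Mono (Abelian.image.ι f))
  exact (ShortComplex.exact_iff_of_epi_of_isIso_of_mono φ).2 (ShortComplex.exact_kernel f)

omit [HasInjectiveResolutions C] in
theorem ses₂ {A B : C} (f : A ⟶ B) :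
    ∃ w, (ShortComplex.mk (Abelian.image.ι f) (cokernel.π f) w).ShortExact :=
  ⟨kernel.condition _, { exact := ShortComplex.exact_kernel (cokernel.π f)
                         mono_f := inferInstanceAs (Mono (Abelian.image.ι f))
                         epi_g := inferInstanceAs (Epi (cokernel.π f)) }⟩

/-- Right exactness of `σ R^q G` where `σ R^{q+1} G` vanishes on the kernel and the image. -/
theorem coker_exact {A B : C} (f : A ⟶ B) (q : ℕ)
    (h1 : IsZero (σ.obj ((G.rightDerived (q + 1)).obj (kernel f))))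
    (h2 : IsZero (σ.obj ((G.rightDerived (q + 1)).obj (Abelian.image f)))) :
    Epi (σ.map ((G.rightDerived q).map (cokernel.π f))) ∧
      (ShortComplex.mk _ _ (comp_zero'' G σ f q)).Exact := by
  obtain ⟨w₁, s₁⟩ := ses₁ f
  obtain ⟨w₂, s₂⟩ := ses₂ f
  have e1 : Epi (σ.map ((G.rightDerived q).map (Abelian.factorThruImage f))) :=
    ((EtpbcB.RDerLES.exact₃ G s₁ q).map σ).epi_f (h1.eq_of_tgt _ _)
  have e2 : Epi (σ.map ((G.rightDerived q).map (cokernel.π f))) :=
    ((EtpbcB.RDerLES.exact₃ G s₂ q).map σ).epi_f (h2.eq_of_tgt _ _)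
  refine ⟨e2, ?_⟩
  have hex := (EtpbcB.RDerLES.exact₂ G s₂ q).map σ
  let S₁ := ShortComplex.mk _ _ (comp_zero'' G σ f q)
  let S₂ := (ShortComplex.mk _ _ (EtpbcB.RDerLES.map_comp_zero G (S := ShortComplex.mk _ _ w₂) q)).map σ
  let φ : S₁ ⟶ S₂ :=
    { τ₁ := σ.map ((G.rightDerived q).map (Abelian.factorThruImage f))
      τ₂ := 𝟙 _
      τ₃ := 𝟙 _
      comm₁₂ := by
        change σ.map _ ≫ σ.map _ = σ.map _ ≫ 𝟙 _
        rw [Category.comp_id, ← σ.map_comp, ← (G.rightDerived q).map_comp, Abelian.image.fac]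
      comm₂₃ := by
        change 𝟙 _ ≫ σ.map _ = σ.map _ ≫ 𝟙 _
        rw [Category.comp_id, Category.id_comp] }
  have i1 : Epi φ.τ₁ := e1
  have i2 : IsIso φ.τ₂ := inferInstanceAs (IsIso (𝟙 _))
  have i3 : Mono φ.τ₃ := inferInstanceAs (Mono (𝟙 _))
  exact (ShortComplex.exact_iff_of_epi_of_isIso_of_mono φ).2 hex

end Abstract

section Mod

variable {Λ : Type (u + 1)} [CommRing Λ] {X : Scheme.{u}}

/-- The contravariant additive functoriality of the sheaf Hom. -/
noncomputable def homAdd (A B H : EtModW.Mod Λ X) : (A ⟶ B) →+ (homSh B H ⟶ homSh A H) :=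
  AddMonoidHom.mk' (fun f => homShMap₂ f (𝟙 H)) (fun f g => homShMap₂_add_left f g (𝟙 H))

theorem homAdd_nsmul (A H : EtModW.Mod Λ X) (c : ℕ) :
    homShMap₂ (c • 𝟙 A) (𝟙 H) = c • 𝟙 (homSh A H) := by
  have h := (homAdd A A H).map_nsmul c (𝟙 A)
  exact h.trans (congrArg (c • ·) (homShMap₂_id A H))

theorem hom_comp_zero {A B : EtModW.Mod Λ X} (f : A ⟶ B) (H : EtModW.Mod Λ X) :
    homShMap₂ (cokernel.π f) (𝟙 H) ≫ homShMap₂ f (𝟙 H) = 0 := by
  rw [← homShMap₂_comp, cokernel.condition, Category.comp_id]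
  exact (homAdd A (cokernel f) H).map_zero

/-- `0 ⟶ Hom(coker f, H) ⟶ Hom(B, H) ⟶ Hom(A, H)` is exact. -/
theorem hom_exact {A B : EtModW.Mod Λ X} (f : A ⟶ B) (H : EtModW.Mod Λ X) :
    Mono (homShMap₂ (cokernel.π f) (𝟙 H)) ∧
      (ShortComplex.mk _ _ (hom_comp_zero f H)).Exact := by
  constructor
  · have h : Mono ((sheafToPresheaf _ _).map (homShMap₂ (cokernel.π f) (𝟙 H))) := by
      have : ∀ W, Mono (((sheafToPresheaf _ _).map (homShMap₂ (cokernel.π f) (𝟙 H))).app W) :=
        fun W => (ModuleCat.mono_iff_injective _).2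
          (HomRes.injective_of_epi (H := H) (cokernel.π f) W.unop)
      exact NatTrans.mono_of_mono_app _
    exact (sheafToPresheaf _ _).mono_of_mono_map h
  · let i := sheafToPresheaf X.smallEtaleTopology (ModuleCat.{u + 1} Λ)
    let a := presheafToSheaf X.smallEtaleTopology (ModuleCat.{u + 1} Λ)
    have hp : ((ShortComplex.mk _ _ (hom_comp_zero f H)).map i).Exact := by
      refine ExtLES91.exact_of_evaluation _ (fun W => ?_)
      rw [ShortComplex.moduleCat_exact_iff]
      intro φ hφ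
      exact HomRes.exact_of_epi (ShortComplex.mk f (cokernel.π f) (cokernel.condition f))
        (ShortComplex.exact_cokernel f) W.unop φ hφ
    have ha := hp.map a
    let e : i ⋙ a ≅ 𝟭 _ :=
      asIso (sheafificationAdjunction X.smallEtaleTopology (ModuleCat.{u + 1} Λ)).counit
    exact ShortComplex.exact_of_iso (ShortComplex.mapNatIso _ e) ha

/-- Cardinality of the cokernel of a multiplication. -/
theorem card_quot_of_exact {A C : ModuleCat.{u + 1} Λ} (c : ℕ) (g : A ⟶ C) [Epi g]
    (w : (c • 𝟙 A) ≫ g = 0) (h : (ShortComplex.mk (c • 𝟙 A) g w).Exact) :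
    Nat.card (A ⧸ (mul c A).range) = Nat.card C := by
  have hs : Function.Surjective g.hom := (ModuleCat.epi_iff_surjective _).1 inferInstance
  have hk : (mul c A).range = g.hom.toAddMonoidHom.ker := by
    ext x
    constructor
    · rintro ⟨y, rfl⟩
      have := congrArg (fun k => k.hom y) w
      exact this
    · intro hx
      obtain ⟨y, hy⟩ := (ShortComplex.moduleCat_exact_iff _).1 h x hx
      exact ⟨y, hy⟩
  rw [hk]
  exact Nat.card_congr (QuotientAddGroup.quotientKerEquivOfSurjective g.hom.toAddMonoidHom hs).toEquiv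

/-- Cardinality of the kernel of a multiplication. -/
theorem card_ker_of_exact {A C : ModuleCat.{u + 1} Λ} (c : ℕ) (g : C ⟶ A) [Mono g]
    (w : g ≫ (c • 𝟙 A) = 0) (h : (ShortComplex.mk g (c • 𝟙 A) w).Exact) :
    Nat.card (mul c A).ker = Nat.card C := by
  have hi : Function.Injective g.hom := (ModuleCat.mono_iff_injective _).1 inferInstance
  have hk : (mul c A).ker = g.hom.toAddMonoidHom.range := by
    ext x
    constructor
    · intro hx
      obtain ⟨y, hy⟩ := (ShortComplex.moduleCat_exact_iff _).1 h x hx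
      exact ⟨y, hy⟩
    · rintro ⟨y, rfl⟩
      have := congrArg (fun k => k.hom y) w
      exact this
  rw [hk]
  exact (Nat.card_congr (AddMonoidHom.ofInjective (f := g.hom.toAddMonoidHom) hi).toEquiv).symm

end Mod

end Groth.Agent.Sga5.H990.Alg
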