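import Groth.Agent.Sga5.H990.Pt

/-!
# `|(j_* B^D)_ξ| = |(j_* B)_ξ|` at a bad point of a regular curve
-/

set_option autoImplicit false
universe u
open CategoryTheory CategoryTheory.Limits AlgebraicGeometry Opposite

namespace Groth.Agent.Sga5.H990.Count

open Groth.Agent.Sga4h Groth.Agent.Sga4h.X144Core Groth.Agent.Sga4h.ModRestr
open Groth.Agent.Sga4h.HomSh Groth.Agent.Sga4h.HomExt Groth.Agent.Sga4h.X144Main
open Groth.Agent.Sga5.H990.Pt

variable {Λ : Type (u + 1)} [CommRing Λ] {S U : Scheme.{u}}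

theorem card_stalk {Ω Ω' : Type u} [Field Ω] [IsSepClosed Ω] [Field Ω'] [IsSepClosed Ω']
    {X V : Scheme.{u}} (p : V ⟶ X) [Etale p]
    (ξ : Spec (CommRingCat.of Ω) ⟶ X) (ξ' : Spec (CommRingCat.of Ω') ⟶ V)
    (h : ξ default = p (ξ' default)) (G : EtModW.Mod Λ X) :
    Nat.card ((EtModW.stalk Λ ξ).obj G) =
      Nat.card ((EtModW.stalk Λ ξ').obj ((res Λ p).obj G)) := by
  obtain ⟨e⟩ := nonempty_stalk ξ (ξ' ≫ p) (h.trans (Scheme.Hom.comp_apply _ _ _).symm) G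
  obtain ⟨e'⟩ := nonempty_stalk_res p ξ' G
  exact Nat.card_congr (e.trans e'.symm).toEquiv

theorem card_dual_aux (n : ℕ) (hΛ : GoodRing Λ) (hn' : (n : Λ) = 0) [IsLocallyNoetherian S]
    (hreg : ∀ s : S, IsRegularLocalRing (S.presheaf.stalk s))
    (hdim : ∀ s : S, ringKrullDim (S.presheaf.stalk s) ≤ 1)
    (hn : IsUnit (n : Γ(S, ⊤)))
    (j : U ⟶ S) [IsOpenImmersion j] (hU : Dense (Set.range j.base))
    (V : Scheme.{u}) (p : V ⟶ S) [Etale p] (v : V) [IsIntegral V] [IsNoetherian V]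
    (hb : ∀ w : V, p w ∉ Set.range j.base ↔ w = v)
    (G D : EtModW.Mod Λ S) (hG : Nice j G) (hD : Nice j D)
    (e : (res Λ j).obj D ≅ homSh ((res Λ j).obj G) (EtModW.constMod Λ U Λ))
    (hv1 : IsZero (((homShF G).rightDerived 1).obj (EtModW.constMod Λ S Λ)))
    (M : Type (u + 1)) [AddCommGroup M] [Module Λ M] [Finite M]
    (ψ : M →ₗ[Λ] EtModW.sect Λ ((res Λ p).obj G) (EtCoh.top V))
    (hψ1 : Groth.Agent.Etcore.LVan.InjAt ((res Λ p).obj G) ψ v)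
    (hψ2 : Groth.Agent.Etcore.LVan.SurjAt ((res Λ p).obj G) ψ v)
    {Ω : Type u} [Field Ω] [IsSepClosed Ω] (ξ : Spec (CommRingCat.of Ω) ⟶ V)
    (hξ : ξ default = v) :
    Nat.card ((EtModW.stalk Λ ξ).obj ((res Λ p).obj D)) =
      Nat.card ((EtModW.stalk Λ ξ).obj ((res Λ p).obj G)) := by
  obtain ⟨hreg', hdim'⟩ := X144Geo2.geo2 hreg hdim p
  have hn'' : IsUnit (n : Γ(V, ⊤)) := by
    have := hn.map (p.appTop).hom
    rwa [map_natCast] at this
  let j' : pullback p j ⟶ V := pullback.fst p j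
  let p' : pullback p j ⟶ U := pullback.snd p j
  have hsq : j' ≫ p = p' ≫ j := pullback.condition
  have hr : Set.range j'.base = p.base ⁻¹' Set.range j.base :=
    IsOpenImmersion.range_pullbackFst _ _
  have hp' : Etale p' := inferInstanceAs (Etale (pullback.snd p j))
  have hU' : Dense (Set.range j'.base) := by
    rw [hr]
    exact hU.preimage p.isOpenMap
  have hz' : ∀ w : V, w ∉ Set.range j'.base ↔ w = v := by
    intro w
    rw [hr]
    exact hb w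
  have hp := Pt.ptData n hΛ hn' hreg' hdim' hn'' j' hU' v ((hz' v).2 rfl) ξ hξ
  have hξ' : ∀ t, ξ t = v := fun t => by rw [Subsingleton.elim t default, hξ]
  obtain ⟨f, hf⟩ := X144Cst.exists_constHom Λ _ M ψ
  obtain ⟨-, -, -, -, h⟩ := count hΛ hreg' hdim' j' hU' v hz' ξ hξ' hp _ _
    (nice_res j p j' p' hsq hr hG) (nice_res j p j' p' hsq hr hD)
    (dualRes j p j' p' hsq e) M f (hf v ⟨hψ1, hψ2⟩ Ω ξ hξ')
  have h0 : IsZero ((EtModW.stalk Λ ξ).obj (((homShF ((res Λ p).obj G)).rightDerived 1).obj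
      (EtModW.constMod Λ V Λ))) :=
    ((EtModW.stalk Λ ξ).map_isZero ((res Λ p).map_isZero hv1)).of_iso
      ((EtModW.stalk Λ ξ).mapIso ((resExt p G 1).app (EtModW.constMod Λ S Λ) ≪≫
        ((homShF ((res Λ p).obj G)).rightDerived 1).mapIso (resConst Λ p Λ))).symm
  have h1 := (isZero_iff_subsingleton _).1 h0
  rw [h, Nat.card_eq_one_iff_unique.2 ⟨h1, ⟨0⟩⟩, one_mul]

/-- `|(j_* B^D)_ξ| = |(j_* B)_ξ|`. -/
theorem card_dual (n : ℕ) (hΛ : GoodRing Λ) (hn' : (n : Λ) = 0) [IsLocallyNoetherian S]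
    (hreg : ∀ s : S, IsRegularLocalRing (S.presheaf.stalk s))
    (hdim : ∀ s : S, ringKrullDim (S.presheaf.stalk s) ≤ 1)
    (hn : IsUnit (n : Γ(S, ⊤)))
    (j : U ⟶ S) [IsOpenImmersion j] (hU : Dense (Set.range j.base)) (z : S)
    (hz : z ∉ Set.range j.base) {Ω : Type u} [Field Ω] [IsSepClosed Ω]
    (ξ : Spec (CommRingCat.of Ω) ⟶ S) (hξ : ξ default = z)
    (B : EtModW.Mod Λ U) (hB : EtModW.IsFTLocConst Λ B) :
    Nat.card ((EtModW.stalk Λ ξ).obj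
        ((EtModW.push Λ j).obj (homSh B (EtModW.constMod Λ U Λ)))) =
      Nat.card ((EtModW.stalk Λ ξ).obj ((EtModW.push Λ j).obj B)) := by
  have hno := hΛ.noeth
  have hBd : EtModW.IsFTLocConst Λ (homSh B (EtModW.constMod Λ U Λ)) :=
    X144Const.ftlc_homSh hB (X144Dual.ftlc_const Λ Λ)
  have hp₀ := Pt.ptData n hΛ hn' hreg hdim hn j hU z hz ξ hξ
  have f1 := hp₀.fin0 B hB
  have f2 := hp₀.fin0 _ hBd
  obtain ⟨V, v, hv, hVi, hVa, hVn, hb, ⟨M, _, _, _, φ, hφ1, hφ2⟩, -⟩ :=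
    X144Nbd.exists_nbhd Λ hreg hdim j hU z hz ξ
      (fun t => by rw [Subsingleton.elim t default, hξ]) ((EtModW.push Λ j).obj B)
      ((EtModW.push Λ j).obj (homSh B (EtModW.constMod Λ U Λ)))
  have hVet : Etale V.hom := V.prop
  obtain ⟨ψ, hψ1, hψ2⟩ := X144IR.inj_surj_res Λ V _ M φ v hφ1 hφ2
  obtain ⟨Ω', _, _, ξ', hξ'⟩ := EtpbcA.Germ.exists_geomPt_aux V.left v
  have h := card_dual_aux n hΛ hn' hreg hdim hn j hU V.left V.hom v hb
    _ _ (nice_push j B hB) (nice_push j _ hBd) (dualPush j B)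
    (vanish n hΛ hn' hreg hdim hn j hU B hB 1 le_rfl) M ψ hψ1 hψ2 ξ' hξ'
  have hpt : ξ default = V.hom (ξ' default) := by rw [hξ, hξ', hv]
  rw [card_stalk V.hom ξ ξ' hpt, card_stalk V.hom ξ ξ' hpt]
  exact h

end Groth.Agent.Sga5.H990.Count
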