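import Groth.Agent.Sga5.H990.Count
import Groth.Agent.Sga5.H990.Alg

/-!
# `(R^1 j_* B)_ξ ≃ (j_* B^D)_ξ` at a bad point of a regular curve
-/

set_option autoImplicit false
universe u
open CategoryTheory CategoryTheory.Limits AlgebraicGeometry Opposite

namespace Groth.Agent.Sga5.H990.DualOne

open Groth.Agent.Sga4h Groth.Agent.Sga4h.X144Core Groth.Agent.Sga4h.ModRestr
open Groth.Agent.Sga4h.HomSh Groth.Agent.Sga4h.HomExt
open Groth.Agent.Sga5.H990.Pt Groth.Agent.Sga5.H990.Alg Groth.Agent.Sga5.H990.Count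
open Groth.Agent.Sga5.H177.FinIso

variable {Λ : Type (u + 1)} [CommRing Λ] {S U : Scheme.{u}}

theorem killed (n : ℕ) (hn : (n : Λ) = 0) (A : Type (u + 1)) [AddCommGroup A] [Module Λ A] (x : A) :
    n • x = 0 := by
  rw [← Nat.cast_smul_eq_nsmul Λ, hn, zero_smul]

theorem ftlc_image [IsNoetherianRing Λ] {A B : EtModW.Mod Λ U} (f : A ⟶ B)
    (hA : EtModW.IsFTLocConst Λ A) (hB : EtModW.IsFTLocConst Λ B) :
    EtModW.IsFTLocConst Λ (Abelian.image f) :=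
  Etrest.ModFT.ftlc_kernel _ hB (Etrest.ModFT.ftlc_cokernel _ hA hB)

theorem map_nsmul_id {C D : Type*} [Category C] [Category D] [Preadditive C] [Preadditive D]
    (F : C ⥤ D) [F.Additive] (c : ℕ) (A : C) : F.map (c • 𝟙 A) = c • 𝟙 (F.obj A) := by
  rw [F.map_nsmul, F.map_id]

theorem card_rpush [IsNoetherianRing Λ] {j : U ⟶ S} [IsOpenImmersion j] {Ω : Type u} [Field Ω]
    [IsSepClosed Ω] {ξ : Spec (CommRingCat.of Ω) ⟶ S} (hp : PtData Λ j ξ) (B : EtModW.Mod Λ U)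
    (hB : EtModW.IsFTLocConst Λ B) (c : ℕ) :
    Nat.card (((EtModW.stalk Λ ξ).obj ((EtModW.Rpush Λ j 1).obj B) : Type (u + 1)) ⧸
        (mul c ((EtModW.stalk Λ ξ).obj ((EtModW.Rpush Λ j 1).obj B) : Type (u + 1))).range) =
      Nat.card ((EtModW.stalk Λ ξ).obj ((EtModW.Rpush Λ j 1).obj (cokernel (c • 𝟙 B)))) := by
  obtain ⟨he, hx⟩ := coker_exact (EtModW.push Λ j) (EtModW.stalk Λ ξ) (c • 𝟙 B) 1
    (hp.two _ (Etrest.ModFT.ftlc_kernel _ hB hB) 2 le_rfl)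
    (hp.two _ (ftlc_image _ hB hB) 2 le_rfl)
  have h1 : (EtModW.stalk Λ ξ).map (((EtModW.push Λ j).rightDerived 1).map (c • 𝟙 B)) =
      c • 𝟙 ((EtModW.stalk Λ ξ).obj ((EtModW.Rpush Λ j 1).obj B)) := by
    rw [map_nsmul_id, map_nsmul_id]
  have w : (c • 𝟙 ((EtModW.stalk Λ ξ).obj ((EtModW.Rpush Λ j 1).obj B))) ≫
      (EtModW.stalk Λ ξ).map (((EtModW.push Λ j).rightDerived 1).map (cokernel.π (c • 𝟙 B))) = 0 := by
    rw [← h1]
    exact comp_zero'' _ _ _ _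
  refine card_quot_of_exact c _ w ?_
  have : ∀ (f : (EtModW.stalk Λ ξ).obj ((EtModW.Rpush Λ j 1).obj B) ⟶
      (EtModW.stalk Λ ξ).obj ((EtModW.Rpush Λ j 1).obj B))
      (w' : f ≫ (EtModW.stalk Λ ξ).map
        (((EtModW.push Λ j).rightDerived 1).map (cokernel.π (c • 𝟙 B))) = 0)
      (_ : f = c • 𝟙 _) (_ : (ShortComplex.mk f _ w').Exact), (ShortComplex.mk _ _ w).Exact := by
    rintro _ w' rfl h
    exact h
  exact this _ _ h1 hx

theorem card_torsion (j : U ⟶ S) [IsOpenImmersion j] {Ω : Type u} [Field Ω]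
    [IsSepClosed Ω] (ξ : Spec (CommRingCat.of Ω) ⟶ S) (B H : EtModW.Mod Λ U) (c : ℕ) :
    Nat.card (mul c ((EtModW.stalk Λ ξ).obj
        ((EtModW.push Λ j).obj (homSh B H)) : Type (u + 1))).ker =
      Nat.card ((EtModW.stalk Λ ξ).obj
        ((EtModW.push Λ j).obj (homSh (cokernel (c • 𝟙 B)) H))) := by
  obtain ⟨hm, hx⟩ := hom_exact (c • 𝟙 B) H
  let T : EtModW.Mod Λ U ⥤ ModuleCat.{u + 1} Λ := EtModW.push Λ j ⋙ EtModW.stalk Λ ξ
  have : PreservesFiniteLimits T := inferInstance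
  have hadd : T.Additive := inferInstance
  have hx' := hx.map_of_mono_of_preservesKernel T hm inferInstance
  have hm' : Mono (T.map (homShMap₂ (cokernel.π (c • 𝟙 B)) (𝟙 H))) := inferInstance
  have h1 : T.map (homShMap₂ (c • 𝟙 B) (𝟙 H)) = c • 𝟙 (T.obj (homSh B H)) := by
    rw [homAdd_nsmul, map_nsmul_id]
  have w : T.map (homShMap₂ (cokernel.π (c • 𝟙 B)) (𝟙 H)) ≫ (c • 𝟙 (T.obj (homSh B H))) = 0 := by
    rw [← h1, ← T.map_comp, hom_comp_zero, T.map_zero]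
  refine card_ker_of_exact c (T.map (homShMap₂ (cokernel.π (c • 𝟙 B)) (𝟙 H))) w ?_
  have : ∀ (f : T.obj (homSh B H) ⟶ T.obj (homSh B H))
      (w' : T.map (homShMap₂ (cokernel.π (c • 𝟙 B)) (𝟙 H)) ≫ f = 0)
      (_ : f = c • 𝟙 _) (_ : (ShortComplex.mk _ f w').Exact), (ShortComplex.mk _ _ w).Exact := by
    rintro _ w' rfl h
    exact h
  exact this _ _ h1 hx'

/-- `(R^1 j_* B)_ξ ≃ (j_* B^D)_ξ`. -/
theorem nonempty_dual (l ν : ℕ) (hl : l.Prime) (hΛ : GoodRing Λ) (hn' : ((l ^ ν : ℕ) : Λ) = 0)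
    [IsLocallyNoetherian S]
    (hreg : ∀ s : S, IsRegularLocalRing (S.presheaf.stalk s))
    (hdim : ∀ s : S, ringKrullDim (S.presheaf.stalk s) ≤ 1)
    (hn : IsUnit ((l ^ ν : ℕ) : Γ(S, ⊤)))
    (j : U ⟶ S) [IsOpenImmersion j] (hU : Dense (Set.range j.base)) (z : S)
    (hz : z ∉ Set.range j.base) {Ω : Type u} [Field Ω] [IsSepClosed Ω]
    (ξ : Spec (CommRingCat.of Ω) ⟶ S) (hξ : ξ default = z)
    (B : EtModW.Mod Λ U) (hB : EtModW.IsFTLocConst Λ B) :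
    Nonempty (((EtModW.stalk Λ ξ).obj ((EtModW.Rpush Λ j 1).obj B) : Type (u + 1)) ≃+
      ((EtModW.stalk Λ ξ).obj
        ((EtModW.push Λ j).obj (homSh B (EtModW.constMod Λ U Λ))) : Type (u + 1))) := by
  have hno := hΛ.noeth
  have hp := Pt.ptData (l ^ ν) hΛ hn' hreg hdim hn j hU z hz ξ hξ
  have hBd : EtModW.IsFTLocConst Λ (homSh B (EtModW.constMod Λ U Λ)) :=
    X144Const.ftlc_homSh hB (X144Dual.ftlc_const Λ Λ)
  have f1 := hp.fin1 B hB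
  have f2 := hp.fin0 _ hBd
  refine nonempty_addEquiv l ν hl _ _ (killed _ hn' _) (killed _ hn' _) (fun k => ?_)
  have hC : EtModW.IsFTLocConst Λ (cokernel (l ^ k • 𝟙 B)) := Etrest.ModFT.ftlc_cokernel _ hB hB
  rw [← card_quot, card_rpush hp B hB, card_torsion, card_dual (l ^ ν) hΛ hn' hreg hdim hn j hU z hz
    ξ hξ _ hC, hp.card _ hC]

end Groth.Agent.Sga5.H990.DualOne
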