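import Groth.Agent.Sga4h.X144Main
import Groth.Agent.Sga4h.EulerSpec
import Groth.Agent.EtpbcB.GeomPointIndep

/-!
# Geometric stalks of sheaves of modules: independence of the geometric point, étale localisation

* `nonempty_stalk`: the stalks at two geometric points with the same image are isomorphic groups;
* `ptData`: `X144Core.PtData` at every geometric point over a bad point.
-/

set_option autoImplicit false
universe u
open CategoryTheory CategoryTheory.Limits AlgebraicGeometry Opposite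

namespace Groth.Agent.Sga5.H990.Pt

open Groth.Agent.Sga4h Groth.Agent.Sga4h.X144Core Groth.Agent.Sga4h.ModRestr

variable {Λ : Type (u + 1)} [CommRing Λ] {X : Scheme.{u}}

/-- Stalks at geometric points with the same image. -/
theorem nonempty_stalk {Ω Ω' : Type u} [Field Ω] [IsSepClosed Ω] [Field Ω'] [IsSepClosed Ω']
    (ξ : Spec (CommRingCat.of Ω) ⟶ X) (ξ' : Spec (CommRingCat.of Ω') ⟶ X)
    (h : ξ default = ξ' default) (G : EtModW.Mod Λ X) :
    Nonempty (((EtModW.stalk Λ ξ).obj G : Type (u + 1)) ≃+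
      ((EtModW.stalk Λ ξ').obj G : Type (u + 1))) := by
  obtain ⟨e⟩ := EtpbcB.GeomPointIndep.nonempty_stalkIso ξ ξ' h
  exact ⟨(Etrest.ModStalk.stalkEquiv Λ ξ G).symm.trans
    ((e.app ((Etrest.ModAb.ab Λ X).obj G)).addCommGroupIsoToAddEquiv.trans
      (Etrest.ModStalk.stalkEquiv Λ ξ' G))⟩

theorem isZero_iff_subsingleton (A : ModuleCat.{u + 1} Λ) : IsZero A ↔ Subsingleton A :=
  ⟨fun h => ModuleCat.subsingleton_of_isZero h, fun _ => ModuleCat.isZero_of_subsingleton _⟩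

theorem isZero_stalk {Ω Ω' : Type u} [Field Ω] [IsSepClosed Ω] [Field Ω'] [IsSepClosed Ω']
    (ξ : Spec (CommRingCat.of Ω) ⟶ X) (ξ' : Spec (CommRingCat.of Ω') ⟶ X)
    (h : ξ default = ξ' default) (G : EtModW.Mod Λ X) (h0 : IsZero ((EtModW.stalk Λ ξ).obj G)) :
    IsZero ((EtModW.stalk Λ ξ').obj G) := by
  obtain ⟨e⟩ := nonempty_stalk ξ ξ' h G
  rw [isZero_iff_subsingleton] at h0 ⊢
  exact e.symm.toEquiv.subsingleton

variable {S U : Scheme.{u}}

theorem ptData (n : ℕ) (hΛ : GoodRing Λ) (hn' : (n : Λ) = 0) [IsLocallyNoetherian S]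
    (hreg : ∀ s : S, IsRegularLocalRing (S.presheaf.stalk s))
    (hdim : ∀ s : S, ringKrullDim (S.presheaf.stalk s) ≤ 1)
    (hn : IsUnit (n : Γ(S, ⊤)))
    (j : U ⟶ S) [IsOpenImmersion j] (hU : Dense (Set.range j.base)) (z : S)
    (hz : z ∉ Set.range j.base) {Ω : Type u} [Field Ω] [IsSepClosed Ω]
    (ξ : Spec (CommRingCat.of Ω) ⟶ S) (hξ : ξ default = z) : PtData Λ j ξ := by
  obtain ⟨Ω', _, _, ξ', hξ', hp⟩ := X144Main.ptData n hΛ hn' hreg hdim hn j hU z hz
  have h : ξ' default = ξ default := (hξ' _).trans hξ.symm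
  refine ⟨fun B hB q hq => isZero_stalk ξ' ξ h _ (hp.two B hB q hq), fun B hB => ?_,
    fun B hB => ?_, fun B hB => ?_⟩
  · obtain ⟨e⟩ := nonempty_stalk ξ' ξ h ((EtModW.push Λ j).obj B)
    have := hp.fin0 B hB
    exact Finite.of_equiv _ e.toEquiv
  · obtain ⟨e⟩ := nonempty_stalk ξ' ξ h ((EtModW.Rpush Λ j 1).obj B)
    have := hp.fin1 B hB
    exact Finite.of_equiv _ e.toEquiv
  · obtain ⟨e⟩ := nonempty_stalk ξ' ξ h ((EtModW.push Λ j).obj B)
    obtain ⟨e'⟩ := nonempty_stalk ξ' ξ h ((EtModW.Rpush Λ j 1).obj B)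
    rw [← Nat.card_congr e.toEquiv, ← Nat.card_congr e'.toEquiv]
    exact hp.card B hB

section Res

variable {V : Scheme.{u}} (p : V ⟶ X) [Etale p] {Ω : Type u} [Field Ω] [IsSepClosed Ω]
  (ξ : Spec (CommRingCat.of Ω) ⟶ V) (G : EtModW.Mod Λ X)

attribute [local instance] Groth.Agent.Sga4h.EtaleRes.jCont in
/-- The stalk of the restriction to an étale scheme. -/
theorem nonempty_stalk_res :
    Nonempty (((EtModW.stalk Λ ξ).obj ((res Λ p).obj G) : Type (u + 1)) ≃+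
      ((EtModW.stalk Λ (ξ ≫ p)).obj G : Type (u + 1))) := by
  let e1 : (EtCoh.pull p).obj ((Etrest.ModAb.ab Λ X).obj G) ≅
      (Etrest.ModAb.ab Λ V).obj ((res Λ p).obj G) :=
    (Groth.Agent.Sga4h.EtaleRes.pullIsoRestr p).app ((Etrest.ModAb.ab Λ X).obj G)
  exact ⟨(Etrest.ModStalk.stalkEquiv Λ ξ ((res Λ p).obj G)).symm.trans
    (((EtCoh.stalk ξ).mapIso e1.symm ≪≫ (Groth.Agent.Etbase.StalkPull.stalkPullIso p ξ).symm.app
      ((Etrest.ModAb.ab Λ X).obj G)).addCommGroupIsoToAddEquiv.trans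
      (Etrest.ModStalk.stalkEquiv Λ (ξ ≫ p) G))⟩

theorem isZero_stalk_res (h : IsZero ((EtModW.stalk Λ (ξ ≫ p)).obj G)) :
    IsZero ((EtModW.stalk Λ ξ).obj ((res Λ p).obj G)) := by
  obtain ⟨e⟩ := nonempty_stalk_res p ξ G
  rw [isZero_iff_subsingleton] at h ⊢
  exact e.toEquiv.subsingleton

end Res

end Groth.Agent.Sga5.H990.Pt
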