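import Groth.Agent.Sga5.H990.DualOne
import Groth.Agent.Sga4h.Punct250
import Groth.Agent.Sga4h.X144Hom

/-!
# `Ext^q(P, Λ)` for a punctual sheaf `P` on a regular curve
-/

set_option autoImplicit false
universe u
open CategoryTheory CategoryTheory.Limits AlgebraicGeometry Opposite

namespace Groth.Agent.Sga5.H990.Punct

open Groth.Agent.Sga4h Groth.Agent.Sga4h.X144Core Groth.Agent.Sga4h.ModRestr
open Groth.Agent.Sga4h.HomSh Groth.Agent.Sga4h.HomExt Groth.Agent.Sga4h.HomRes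
open Groth.Agent.Sga5.H990.Pt Groth.Agent.Sga5.H990.Alg

section Abstract

universe v₁ v₂ v₃ u₁ u₂ u₃
open Groth.Agent.Sga4h.FunLES Groth.Agent.Sga4h.X144Count

theorem abstract_punct {𝒜 : Type u₁} {ℬ : Type u₂} {𝒞 : Type u₃} [Category.{v₁} 𝒜] [Category.{v₂} ℬ]
    [Category.{v₃} 𝒞] [Abelian 𝒜] [Abelian ℬ] [Abelian 𝒞] [HasInjectiveResolutions 𝒜]
    (PP PM PN QM QN : 𝒜 ⥤ ℬ) [PP.Additive] [PM.Additive] [PN.Additive] [QM.Additive] [QN.Additive]
    (a : PP ⟶ PM) (b : PM ⟶ PN) (hab : a ≫ b = 0) (b' : QM ⟶ QN)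
    (ηM : PM ⟶ QM) (ηN : PN ⟶ QN) (h2 : b ≫ ηN = ηM ≫ b')
    (hP : ∀ I : 𝒜, Injective I → (ShortComplex.mk (a.app I) (b.app I) (congr_app hab I)).ShortExact)
    (hb' : ∀ I : 𝒜, Injective I → IsIso (b'.app I))
    (hηN : ∀ I : 𝒜, Injective I → IsIso (ηN.app I))
    (σ : ℬ ⥤ 𝒞) [σ.Additive] [PreservesFiniteLimits σ] [PreservesFiniteColimits σ] (L : 𝒜)
    (hM : ∀ q, 1 ≤ q → IsZero (σ.obj ((PM.rightDerived q).obj L)))
    (hM0 : IsIso (σ.map ((NatTrans.rightDerived ηM 0).app L)))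
    (hP0 : IsZero (σ.obj ((PP.rightDerived 0).obj L)))
    (hN2 : ∀ q, 2 ≤ q → IsZero (σ.obj ((QN.rightDerived q).obj L))) :
    (∀ q, q ≠ 2 → IsZero (σ.obj ((PP.rightDerived q).obj L))) ∧
      Nonempty (σ.obj ((PP.rightDerived 2).obj L) ≅ σ.obj ((QN.rightDerived 1).obj L)) := by
  have wP : ∀ M, a.app M ≫ b.app M = 0 := fun M => congr_app hab M
  have hPN : ∀ q, 2 ≤ q → IsZero (σ.obj ((PN.rightDerived q).obj L)) := fun q hq =>
    (hN2 q hq).of_iso (σ.mapIso (derIso ηN hηN L q))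
  have e0 : (NatTrans.rightDerived b 0).app L ≫ (NatTrans.rightDerived ηN 0).app L =
      (NatTrans.rightDerived ηM 0).app L ≫ (NatTrans.rightDerived b' 0).app L := by
    have h3 := congrArg (fun t => (NatTrans.rightDerived t 0).app L) h2
    simpa only [NatTrans.rightDerived_comp, NatTrans.comp_app] using h3
  have i1 := isIso_rightDerived ηN hηN L 0
  have i2 := isIso_rightDerived b' hb' L 0
  have i3 : IsIso (σ.map ((NatTrans.rightDerived b 0).app L)) := by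
    have : IsIso (σ.map ((NatTrans.rightDerived b 0).app L) ≫
        σ.map ((NatTrans.rightDerived ηN 0).app L)) := by
      rw [← σ.map_comp, e0, σ.map_comp]
      infer_instance
    exact IsIso.of_isIso_comp_right _ (σ.map ((NatTrans.rightDerived ηN 0).app L))
  refine ⟨fun q hq => ?_, ?_⟩
  · rcases Nat.lt_or_ge q 2 with h | h
    · rcases Nat.eq_zero_or_pos q with rfl | h'
      · exact hP0
      · obtain rfl : q = 1 := by omega
        have x1 := (exact₁ a b wP hP L 0).map σ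
        have h4 : σ.map ((NatTrans.rightDerived b 0).app L) ≫ σ.map (δ a b wP hP L 0) = 0 := by
          rw [← Functor.map_comp, comp_δ, Functor.map_zero]
        have h5 : σ.map (δ a b wP hP L 0) = 0 := by
          rwa [← cancel_epi (σ.map ((NatTrans.rightDerived b 0).app L)), comp_zero]
        exact x1.isZero_of_both_zeros h5 ((hM 1 le_rfl).eq_of_tgt _ _)
    · obtain ⟨r, rfl⟩ : ∃ r, q = r + 1 := ⟨q - 1, by omega⟩
      exact ((exact₁ a b wP hP L r).map σ).isZero_of_both_zeros ((hPN r (by omega)).eq_of_src _ _)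
        ((hM (r + 1) (by omega)).eq_of_tgt _ _)
  · have m1 : Mono (σ.map (δ a b wP hP L 1)) :=
      ((exact₃ a b wP hP L 1).map σ).mono_g ((hM 1 le_rfl).eq_of_src _ _)
    have m2 : Epi (σ.map (δ a b wP hP L 1)) :=
      ((exact₁ a b wP hP L 1).map σ).epi_f ((hM 2 (by omega)).eq_of_tgt _ _)
    have m3 := isIso_of_mono_of_epi (σ.map (δ a b wP hP L 1))
    exact ⟨(asIso (σ.map (δ a b wP hP L 1))).symm ≪≫ σ.mapIso (derIso ηN hηN L 1)⟩

end Abstract

variable {Λ : Type (u + 1)} [CommRing Λ] {S U : Scheme.{u}}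

theorem isZero_homSh {X : Scheme.{u}} {P : EtModW.Mod Λ X} (H : EtModW.Mod Λ X) (h : IsZero P) :
    IsZero (homSh P H) := by
  rw [IsZero.iff_id_eq_zero, ← homShMap₂_id, h.eq_of_src (𝟙 P) 0]
  exact (homAdd P P H).map_zero

theorem isZero_jHom (j : U ⟶ S) [Etale j] (P I : EtModW.Mod Λ S)
    (h0 : IsZero ((res Λ j).obj P)) : IsZero ((jHom j P).obj I) :=
  (EtModW.push Λ j).map_isZero ((isZero_homSh _ h0).of_iso (resHomSh j P I))

theorem isZero_homSh_const [IsLocallyNoetherian S]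
    (hreg : ∀ s : S, IsRegularLocalRing (S.presheaf.stalk s))
    (hdim : ∀ s : S, ringKrullDim (S.presheaf.stalk s) ≤ 1)
    (j : U ⟶ S) [IsOpenImmersion j] (hU : Dense (Set.range j.base)) (P : EtModW.Mod Λ S)
    (h0 : IsZero ((res Λ j).obj P)) : IsZero (homSh P (EtModW.constMod Λ S Λ)) := by
  have h1 := (nice_const (Λ := Λ) hreg hdim j hU Λ).isIso
  have h2 : IsIso ((toJHom j P).app (EtModW.constMod Λ S Λ)) :=
    X144Hom.isIso_unit_homSh Λ j P (EtModW.constMod Λ S Λ)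
  exact (isZero_jHom j P (EtModW.constMod Λ S Λ) h0).of_iso (@asIso _ _ _ _ _ h2)

attribute [local instance 5000] CategoryTheory.Abelian.toPreadditive
  CategoryTheory.Preadditive.preadditiveHasZeroMorphisms

theorem isIso_of_shortExact {C : Type*} [Category C] [Abelian C] {T : ShortComplex C}
    (h : T.ShortExact) (h1 : IsZero T.X₁) : IsIso T.g := by
  have := h.epi_g
  have := h.exact.mono_g (h1.eq_of_src _ _)
  exact isIso_of_mono_of_epi _

theorem isIso_f_of_shortExact {C : Type*} [Category C] [Abelian C] {T : ShortComplex C}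
    (h : T.ShortExact) (h1 : IsZero T.X₃) : IsIso T.f := by
  have := h.mono_f
  have := h.exact.epi_f (h1.eq_of_tgt _ _)
  exact isIso_of_mono_of_epi _

/-- The punctual lemma, when `P` is a quotient of a constant sheaf with the same stalk. -/
theorem core (hΛ : GoodRing Λ) [IsLocallyNoetherian S]
    (hreg : ∀ s : S, IsRegularLocalRing (S.presheaf.stalk s))
    (hdim : ∀ s : S, ringKrullDim (S.presheaf.stalk s) ≤ 1)
    (j : U ⟶ S) [IsOpenImmersion j] (hU : Dense (Set.range j.base)) (z : S)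
    (hz : ∀ w : S, w ∉ Set.range j.base ↔ w = z) {Ω : Type u} [Field Ω]
    [IsSepClosed Ω] (ξ : Spec (.of Ω) ⟶ S) (hξ : ∀ t, ξ t = z) (hp : PtData Λ j ξ)
    (hone : ∀ B : EtModW.Mod Λ U, EtModW.IsFTLocConst Λ B →
      Nonempty (((EtModW.stalk Λ ξ).obj ((EtModW.Rpush Λ j 1).obj B) : Type (u + 1)) ≃+
        ((EtModW.stalk Λ ξ).obj
          ((EtModW.push Λ j).obj (homSh B (EtModW.constMod Λ U Λ))) : Type (u + 1))))
    (P : EtModW.Mod Λ S) (h0 : IsZero ((res Λ j).obj P)) (M : Type (u + 1)) [AddCommGroup M]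
    [Module Λ M] [Finite M] (f : EtModW.constMod Λ S M ⟶ P) (hfe : Epi f)
    (hf : IsIso ((EtModW.stalk Λ ξ).map f)) :
    (∀ q, q ≠ 2 → IsZero ((EtModW.stalk Λ ξ).obj
      (((homShF P).rightDerived q).obj (EtModW.constMod Λ S Λ)))) ∧
    Nonempty (((EtModW.stalk Λ ξ).obj P : Type (u + 1)) ≃+ ((EtModW.stalk Λ ξ).obj
      (((homShF P).rightDerived 2).obj (EtModW.constMod Λ S Λ)) : Type (u + 1))) := by
  have hno := hΛ.noeth
  have hMf : Module.Finite Λ M := inferInstance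
  have hMn : Nice j (EtModW.constMod Λ S M) := nice_const hreg hdim j hU M
  have w : kernel.ι f ≫ f = 0 := kernel.condition f
  have hT : (ShortComplex.mk (kernel.ι f) f w).ShortExact :=
    { exact := ShortComplex.exact_of_f_is_kernel _ (kernelIsKernel f)
      mono_f := inferInstanceAs (Mono (kernel.ι f))
      epi_g := hfe }
  -- the stalk of the kernel
  have hN0 : IsZero ((EtModW.stalk Λ ξ).obj (kernel f)) := by
    have h1 : Mono ((EtModW.stalk Λ ξ).map (kernel.ι f)) := inferInstance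
    have h2 : (EtModW.stalk Λ ξ).map (kernel.ι f) ≫ (EtModW.stalk Λ ξ).map f = 0 := by
      rw [← Functor.map_comp, w, Functor.map_zero]
    have h3 : (EtModW.stalk Λ ξ).map (kernel.ι f) = 0 := by
      rwa [← cancel_mono ((EtModW.stalk Λ ξ).map f), zero_comp]
    exact IsZero.of_mono_eq_zero _ h3
  have hN : ∀ w : S, w ∉ Set.range j.base → ∃ (Ω : Type u) (_ : Field Ω) (_ : IsSepClosed Ω)
      (ξ : Spec (.of Ω) ⟶ S), (∀ t, ξ t = w) ∧ IsZero ((EtModW.stalk Λ ξ).obj (kernel f)) := by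
    intro w hw
    obtain rfl := (hz w).1 hw
    exact ⟨Ω, inferInstance, inferInstance, ξ, hξ, hN0⟩
  -- the restriction of the kernel
  obtain ⟨w', hT'⟩ := X144Cast.resSE j w hT
  have hri : IsIso ((res Λ j).map (kernel.ι f)) := isIso_f_of_shortExact
    (T := ShortComplex.mk ((res Λ j).map (kernel.ι f)) ((res Λ j).map f) w') hT' h0
  let eN : (res Λ j).obj (kernel f) ≅ EtModW.constMod Λ U M :=
    asIso ((res Λ j).map (kernel.ι f)) ≪≫ resConst Λ j M
  have hNf : EtModW.IsFTLocConst Λ ((res Λ j).obj (kernel f)) :=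
    Groth.Agent.Etcore.LPullComp.isFTLC_of_iso eN.symm (X144Dual.ftlc_const Λ M)
  have hunit := isIso_unit_dual hΛ hreg hdim j hU M
  have a1 : ∀ q, 1 ≤ q → IsZero ((EtModW.stalk Λ ξ).obj
      (((homShF (EtModW.constMod Λ S M)).rightDerived q).obj (EtModW.constMod Λ S Λ))) :=
    fun q hq => (EtModW.stalk Λ ξ).map_isZero (X144Ext.ext_const Λ hΛ.inj M q hq)
  have a2 : IsIso ((EtModW.stalk Λ ξ).map ((NatTrans.rightDerived
      (toJHom j (EtModW.constMod Λ S M)) 0).app (EtModW.constMod Λ S Λ))) := by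
    have := isIso_rightDerived_zero j _ _ hunit
    infer_instance
  have a3 : ∀ q, 2 ≤ q → IsZero ((EtModW.stalk Λ ξ).obj
      (((jHom j (kernel f)).rightDerived q).obj (EtModW.constMod Λ S Λ))) := fun q hq => by
    obtain ⟨e⟩ := jHom_iso hΛ j (kernel f) hNf q
    exact (hp.two _ (X144Const.ftlc_homSh hNf (X144Dual.ftlc_const Λ Λ)) q hq).of_iso
      ((EtModW.stalk Λ ξ).mapIso e)
  have a0 : IsZero ((EtModW.stalk Λ ξ).obj
      (((homShF P).rightDerived 0).obj (EtModW.constMod Λ S Λ))) :=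
    (EtModW.stalk Λ ξ).map_isZero ((isZero_homSh_const hreg hdim j hU P h0).of_iso
      ((homShF P).rightDerivedZeroIsoSelf.app (EtModW.constMod Λ S Λ)))
  have hb' : ∀ I : EtModW.Mod Λ S, Injective I → IsIso ((jHomMap j (kernel.ι f)).app I) :=
    fun I hI => isIso_of_shortExact (X144Cast.jSE j w hT I hI) (isZero_jHom j P I h0)
  obtain ⟨hq, ⟨e2⟩⟩ := abstract_punct (homShF P) (homShF (EtModW.constMod Λ S M))
    (homShF (kernel f)) (jHom j (EtModW.constMod Λ S M)) (jHom j (kernel f))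
    (homShFMap f) (homShFMap (kernel.ι f)) (X144Cast.homZ w) (jHomMap j (kernel.ι f))
    (toJHom j (EtModW.constMod Λ S M)) (toJHom j (kernel f))
    (homShFMap_toJHom j (kernel.ι f)) (X144Cast.homSE w hT) hb'
    (fun I hI => isIso_toJHom j (kernel f) I hI hN)
    (EtModW.stalk Λ ξ) (EtModW.constMod Λ S Λ) a1 a2 a0 a3
  refine ⟨hq, ?_⟩
  obtain ⟨e1⟩ := jHom_iso hΛ j (kernel f) hNf 1
  have hfin := hΛ.fin
  have hNd : EtModW.IsFTLocConst Λ
      (homSh ((res Λ j).obj (kernel f)) (EtModW.constMod Λ U Λ)) :=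
    X144Const.ftlc_homSh hNf (X144Dual.ftlc_const Λ Λ)
  obtain ⟨e3⟩ := hone _ hNd
  have hbid : IsIso (X144Const.bidual ((res Λ j).obj (kernel f)) (EtModW.constMod Λ U Λ)) :=
    X144Dual2.isIso_bidual_gen Λ hΛ.refl _ hNf
  have i3 := hMn.isIso
  have e4 : (EtModW.stalk Λ ξ).obj ((EtModW.push Λ j).obj
      (homSh (homSh ((res Λ j).obj (kernel f)) (EtModW.constMod Λ U Λ))
        (EtModW.constMod Λ U Λ))) ≅ (EtModW.stalk Λ ξ).obj P :=
    (EtModW.stalk Λ ξ).mapIso ((EtModW.push Λ j).mapIso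
      ((asIso (X144Const.bidual ((res Λ j).obj (kernel f)) (EtModW.constMod Λ U Λ))).symm ≪≫
        asIso ((res Λ j).map (kernel.ι f))) ≪≫
      (asIso ((resPushAdj Λ j).unit.app (EtModW.constMod Λ S M))).symm) ≪≫
    asIso ((EtModW.stalk Λ ξ).map f)
  exact ⟨((e2 ≪≫ (EtModW.stalk Λ ξ).mapIso e1).toLinearEquiv.toAddEquiv.trans
    (e3.trans e4.toLinearEquiv.toAddEquiv)).symm⟩

theorem main_aux (l ν : ℕ) (hl : l.Prime) (hΛ : GoodRing Λ) (hn' : ((l ^ ν : ℕ) : Λ) = 0)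
    [IsLocallyNoetherian S]
    (hreg : ∀ s : S, IsRegularLocalRing (S.presheaf.stalk s))
    (hdim : ∀ s : S, ringKrullDim (S.presheaf.stalk s) ≤ 1)
    (hn : IsUnit ((l ^ ν : ℕ) : Γ(S, ⊤)))
    (j : U ⟶ S) [IsOpenImmersion j] (hU : Dense (Set.range j.base))
    (V : Scheme.{u}) (p : V ⟶ S) [Etale p] (v : V) [IsIntegral V] [IsNoetherian V]
    (hb : ∀ w : V, p w ∉ Set.range j.base ↔ w = v)
    (P : EtModW.Mod Λ S) (h0 : IsZero ((res Λ j).obj P))
    (M : Type (u + 1)) [AddCommGroup M] [Module Λ M] [Finite M]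
    (ψ : M →ₗ[Λ] EtModW.sect Λ ((res Λ p).obj P) (EtCoh.top V))
    (hψ1 : Groth.Agent.Etcore.LVan.InjAt ((res Λ p).obj P) ψ v)
    (hψ2 : Groth.Agent.Etcore.LVan.SurjAt ((res Λ p).obj P) ψ v)
    {Ω : Type u} [Field Ω] [IsSepClosed Ω] (ξ : Spec (CommRingCat.of Ω) ⟶ V)
    (hξ : ξ default = v) :
    (∀ q, q ≠ 2 → IsZero ((EtModW.stalk Λ ξ).obj ((res Λ p).obj
      (((homShF P).rightDerived q).obj (EtModW.constMod Λ S Λ))))) ∧
    Nonempty (((EtModW.stalk Λ ξ).obj ((res Λ p).obj P) : Type (u + 1)) ≃+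
      ((EtModW.stalk Λ ξ).obj ((res Λ p).obj
        (((homShF P).rightDerived 2).obj (EtModW.constMod Λ S Λ))) : Type (u + 1))) := by
  obtain ⟨hreg', hdim'⟩ := X144Geo2.geo2 hreg hdim p
  have hn'' : IsUnit ((l ^ ν : ℕ) : Γ(V, ⊤)) := by
    have := hn.map (p.appTop).hom
    rwa [map_natCast] at this
  let j' : pullback p j ⟶ V := pullback.fst p j
  let p' : pullback p j ⟶ U := pullback.snd p j
  have hsq : j' ≫ p = p' ≫ j := pullback.condition
  have hr : Set.range j'.base = p.base ⁻¹' Set.range j.base :=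
    IsOpenImmersion.range_pullbackFst _ _
  have hp' : Etale p' := inferInstanceAs (Etale (pullback.snd p j))
  have hU' : Dense (Set.range j'.base) := by
    rw [hr]
    exact hU.preimage p.isOpenMap
  have hz' : ∀ w : V, w ∉ Set.range j'.base ↔ w = v := by
    intro w
    rw [hr]
    exact hb w
  have hp := Pt.ptData (l ^ ν) hΛ hn' hreg' hdim' hn'' j' hU' v ((hz' v).2 rfl) ξ hξ
  have hξ' : ∀ t, ξ t = v := fun t => by rw [Subsingleton.elim t default, hξ]
  have h0' : IsZero ((res Λ j').obj ((res Λ p).obj P)) :=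
    ((res Λ p').map_isZero h0).of_iso ((X144Res.resSquare Λ p j' j p' hsq).app P)
  have hf : IsIso ((EtModW.stalk Λ ξ).map (X144Cst.constHom ψ)) := by
    rw [ConcreteCategory.isIso_iff_bijective]
    exact X144Cst.bijective_stalk ξ ψ v hξ hψ1 hψ2
  have hfe : Epi (X144Cst.constHom ψ) := Punct250.epi_constHom (fun W s w hw => by
    refine PunctLem657.van_of_isZero_res j' _ h0' s w ?_
    by_contra h
    exact hw ((hz' _).1 h)) hψ2
  obtain ⟨h1, ⟨e⟩⟩ := core hΛ hreg' hdim' j' hU' v hz' ξ hξ' hp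
    (fun B hB => DualOne.nonempty_dual l ν hl hΛ hn' hreg' hdim' hn'' j' hU' v ((hz' v).2 rfl)
      ξ hξ B hB) ((res Λ p).obj P) h0' M (X144Cst.constHom ψ) hfe hf
  have hE : ∀ q, (res Λ p).obj (((homShF P).rightDerived q).obj (EtModW.constMod Λ S Λ)) ≅
      ((homShF ((res Λ p).obj P)).rightDerived q).obj (EtModW.constMod Λ V Λ) := fun q =>
    (resExt p P q).app (EtModW.constMod Λ S Λ) ≪≫
        ((homShF ((res Λ p).obj P)).rightDerived q).mapIso (resConst Λ p Λ)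
  exact ⟨fun q hq => (h1 q hq).of_iso ((EtModW.stalk Λ ξ).mapIso (hE q)),
    ⟨e.trans ((EtModW.stalk Λ ξ).mapIso (hE 2)).symm.toLinearEquiv.toAddEquiv⟩⟩

/-- `Ext^q(P, Λ)` of a sheaf `P` vanishing on `U`, at a point `z` outside `U`. -/
theorem main (l ν : ℕ) (hl : l.Prime) (hΛ : GoodRing Λ) (hn' : ((l ^ ν : ℕ) : Λ) = 0)
    [IsLocallyNoetherian S]
    (hreg : ∀ s : S, IsRegularLocalRing (S.presheaf.stalk s))
    (hdim : ∀ s : S, ringKrullDim (S.presheaf.stalk s) ≤ 1)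
    (hn : IsUnit ((l ^ ν : ℕ) : Γ(S, ⊤)))
    (j : U ⟶ S) [IsOpenImmersion j] (hU : Dense (Set.range j.base)) (z : S)
    (hz : z ∉ Set.range j.base) {Ω : Type u} [Field Ω] [IsSepClosed Ω]
    (ξ : Spec (CommRingCat.of Ω) ⟶ S) (hξ : ξ default = z)
    (P : EtModW.Mod Λ S) (hP : Finite ((EtModW.stalk Λ ξ).obj P))
    (h0 : IsZero ((res Λ j).obj P)) :
    (∀ q, q ≠ 2 → IsZero ((EtModW.stalk Λ ξ).obj
      (((homShF P).rightDerived q).obj (EtModW.constMod Λ S Λ)))) ∧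
    Nonempty (((EtModW.stalk Λ ξ).obj P : Type (u + 1)) ≃+ ((EtModW.stalk Λ ξ).obj
      (((homShF P).rightDerived 2).obj (EtModW.constMod Λ S Λ)) : Type (u + 1))) := by
  have hno := hΛ.noeth
  obtain ⟨V, v, hv, hVi, hVa, hVn, hb, ⟨M, _, _, _, φ, hφ1, hφ2⟩, -⟩ :=
    X144Nbd.exists_nbhd Λ hreg hdim j hU z hz ξ
      (fun t => by rw [Subsingleton.elim t default, hξ]) P P
  have hVet : Etale V.hom := V.prop
  obtain ⟨ψ, hψ1, hψ2⟩ := X144IR.inj_surj_res Λ V _ M φ v hφ1 hφ2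
  obtain ⟨Ω', _, _, ξ', hξ'⟩ := EtpbcA.Germ.exists_geomPt_aux V.left v
  obtain ⟨h1, ⟨e⟩⟩ := main_aux l ν hl hΛ hn' hreg hdim hn j hU V.left V.hom v hb P h0 M ψ
    hψ1 hψ2 ξ' hξ'
  have hpt : ξ default = (ξ' ≫ V.hom) default := by
    rw [hξ]
    refine hv.symm.trans ?_
    rw [← hξ']
    exact (Scheme.Hom.comp_apply _ _ _).symm
  have hst : ∀ G : EtModW.Mod Λ S, Nonempty (((EtModW.stalk Λ ξ).obj G : Type (u + 1)) ≃+
      ((EtModW.stalk Λ ξ').obj ((res Λ V.hom).obj G) : Type (u + 1))) := fun G => by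
    obtain ⟨e1⟩ := nonempty_stalk ξ (ξ' ≫ V.hom) hpt G
    obtain ⟨e2⟩ := nonempty_stalk_res V.hom ξ' G
    exact ⟨e1.trans e2.symm⟩
  refine ⟨fun q hq => ?_, ?_⟩
  · obtain ⟨e1⟩ := hst (((homShF P).rightDerived q).obj (EtModW.constMod Λ S Λ))
    have h2 := h1 q hq
    rw [isZero_iff_subsingleton] at h2 ⊢
    exact e1.toEquiv.subsingleton
  · obtain ⟨e1⟩ := hst (((homShF P).rightDerived 2).obj (EtModW.constMod Λ S Λ))
    obtain ⟨e2⟩ := hst P
    exact ⟨e2.trans (e.trans e1.symm)⟩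

end Groth.Agent.Sga5.H990.Punct
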